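import Groth.Agent.Equidim5.Trait
import Groth.Agent.UnivOpen.Conditions

/-!
# Geometrically pointwise integral fibres over a geometrically unibranch base (EGA IV 15.3)
-/

set_option autoImplicit false
set_option linter.style.haveILetI false
set_option backward.isDefEq.respectTransparency false
set_option backward.isDefEq.respectTransparency.types false

universe u

open CategoryTheory Limits AlgebraicGeometry IsLocalRing

namespace Groth.Agent.Equidim5

theorem eq_of_isDomain_stalk {X : Scheme.{u}} (x : X) [IsDomain (X.presheaf.stalk x)] {v v' : X}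
    (hv : v ⤳ x) (hv' : v' ⤳ x) (hm : ∀ z, z ⤳ x → z ⤳ v → z = v) (hm' : ∀ z, z ⤳ x → z ⤳ v' → z = v') :
    v = v' := by
  let b : PrimeSpectrum (X.presheaf.stalk x) := ⟨⊥, Ideal.isPrime_bot⟩
  let o := X.fromSpecStalk x b
  have key : ∀ w, w ⤳ x → o ⤳ w := fun w hw => by
    obtain ⟨p, rfl⟩ := DimFormula.fromSpecStalk_range_of_specializes hw
    let p' : PrimeSpectrum (X.presheaf.stalk x) := p
    exact ((PrimeSpectrum.le_iff_specializes b p').1 bot_le).map (X.fromSpecStalk x).continuous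
  have ho : o ⤳ x := by
    have : o ∈ Set.range (X.fromSpecStalk x) := ⟨_, rfl⟩
    rwa [Scheme.range_fromSpecStalk] at this
  exact (hm o ho (key v hv)).symm.trans (hm' o ho (key v' hv'))

theorem isDomain_stalk_of_unique {X : Scheme.{u}} (x : X) [_root_.IsReduced (X.presheaf.stalk x)]
    (h : ∀ η η' : X, η ⤳ x → η' ⤳ x → (∀ z, z ⤳ η → z = η) → (∀ z, z ⤳ η' → z = η') → η = η') :
    IsDomain (X.presheaf.stalk x) := by
  have hto : ∀ p : PrimeSpectrum (X.presheaf.stalk x), X.fromSpecStalk x p ⤳ x := fun p => by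
    have : X.fromSpecStalk x p ∈ Set.range (X.fromSpecStalk x) := ⟨p, rfl⟩
    rwa [Scheme.range_fromSpecStalk] at this
  have hmin : ∀ (p : Ideal (X.presheaf.stalk x)) (hp : p ∈ minimalPrimes (X.presheaf.stalk x)),
      ∀ z, z ⤳ X.fromSpecStalk x (⟨p, hp.1.1⟩ : PrimeSpectrum (X.presheaf.stalk x)) →
        z = X.fromSpecStalk x (⟨p, hp.1.1⟩ : PrimeSpectrum (X.presheaf.stalk x)) := by
    intro p hp z hz
    obtain ⟨q, rfl⟩ := DimFormula.fromSpecStalk_range_of_specializes (hz.trans (hto _))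
    let q' : PrimeSpectrum (X.presheaf.stalk x) := q
    have hle : q'.asIdeal ≤ p := (PrimeSpectrum.le_iff_specializes q' ⟨p, hp.1.1⟩).2
      ((X.fromSpecStalk x).isEmbedding.isInducing.specializes_iff.1 hz)
    exact congrArg (X.fromSpecStalk x) (show q' = ⟨p, hp.1.1⟩ from
      PrimeSpectrum.ext (le_antisymm hle (hp.2 ⟨q'.2, bot_le⟩ hle)))
  have hone : ∀ p ∈ minimalPrimes (X.presheaf.stalk x), ∀ q ∈ minimalPrimes (X.presheaf.stalk x), p = q := by
    intro p hp q hq
    exact congrArg PrimeSpectrum.asIdeal ((X.fromSpecStalk x).isEmbedding.injective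
      (h _ _ (hto ⟨p, hp.1.1⟩) (hto ⟨q, hq.1.1⟩) (hmin p hp) (hmin q hq)))
  obtain ⟨p, hp⟩ : (minimalPrimes (X.presheaf.stalk x)).Nonempty := by
    obtain ⟨p, hp, -⟩ := Ideal.exists_minimalPrimes_le (bot_le : (⊥ : Ideal (X.presheaf.stalk x)) ≤ maximalIdeal _)
    exact ⟨p, hp⟩
  have hbot : p = ⊥ := by
    refine eq_bot_iff.2 fun a ha => ?_
    have : a ∈ sInf (minimalPrimes (X.presheaf.stalk x)) := by
      rw [Submodule.mem_sInf]
      exact fun q hq => hone p hp q hq ▸ ha
    rw [show sInf (minimalPrimes (X.presheaf.stalk x)) = (⊥ : Ideal (X.presheaf.stalk x)).radical from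
      Ideal.sInf_minimalPrimes] at this
    exact Ideal.mem_bot.2 (IsNilpotent.eq_zero (mem_nilradical.1 this))
  haveI := hp.1.1
  rw [hbot] at this
  haveI : (⊥ : Ideal (X.presheaf.stalk x)).IsPrime := hbot ▸ hp.1.1
  exact IsDomain.of_bot_isPrime _

theorem maximal_of_isGeomUnibranch {Y : Scheme.{u}} (y : Y) (hy : CAlg2.IsGeomUnibranch (Y.presheaf.stalk y))
    {a a' : Y} (ha : a ⤳ y) (ha' : a' ⤳ y) (hm : ∀ b, b ⤳ a → b = a) (hm' : ∀ b, b ⤳ a' → b = a') : a = a' := by
  haveI := hy.1.1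
  have hp : (nilradical (Y.presheaf.stalk y)).IsPrime := (Ideal.Quotient.isDomain_iff_prime _).1 hy.1.1
  let b : PrimeSpectrum (Y.presheaf.stalk y) := ⟨nilradical _, hp⟩
  have key : ∀ w, w ⤳ y → Y.fromSpecStalk y b ⤳ w := fun w hw => by
    obtain ⟨p, rfl⟩ := DimFormula.fromSpecStalk_range_of_specializes hw
    let p' : PrimeSpectrum (Y.presheaf.stalk y) := p
    exact ((PrimeSpectrum.le_iff_specializes b p').1 (nilradical_le_prime p'.asIdeal)).map
      (Y.fromSpecStalk y).continuous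
  exact (hm _ (key a ha)).symm.trans (hm' _ (key a' ha'))

variable {X Y : Scheme.{u}} [IsLocallyNoetherian Y] (f : X ⟶ Y) [LocallyOfFiniteType f]

theorem isDomain_fiber_stalk (x : X)
    (hint : FBase.IsGeomPtIntegralAt (f.fiberToSpecResidueField (f.base x)) (f.asFiber x)) :
    IsDomain ((f.fiber (f.base x)).presheaf.stalk (f.asFiber x)) := by
  let K := IsLocalRing.ResidueField (Y.presheaf.stalk (f.base x))
  let t := f.fiberToSpecResidueField (f.base x)
  haveI : IsIso (Spec.map (CommRingCat.ofHom (algebraMap K K))) := by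
    rw [show CommRingCat.ofHom (algebraMap K K) = 𝟙 _ from rfl, Spec.map_id]
    infer_instance
  haveI : IsIso (FBase.bcπ t K) :=
    inferInstanceAs (IsIso (pullback.fst t (Spec.map (CommRingCat.ofHom (algebraMap K K)))))
  obtain ⟨x', hx'⟩ := (FBase.bcπ t K).surjective (f.asFiber x)
  haveI := hint K x' hx'
  rw [← hx']
  exact (asIso ((FBase.bcπ t K).stalkMap x')).commRingCatIsoToRingEquiv.toMulEquiv.isDomain _

theorem fibMax_eq (x : X)
    (hint : FBase.IsGeomPtIntegralAt (f.fiberToSpecResidueField (f.base x)) (f.asFiber x))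
    {z z' : X} (hz : z ⤳ x) (hfz : f z = f x) (hm : FibDim.FibMax f z)
    (hz' : z' ⤳ x) (hfz' : f z' = f x) (hm' : FibDim.FibMax f z') : z = z' := by
  haveI := isDomain_fiber_stalk f x hint
  obtain ⟨v, rfl⟩ : z ∈ Set.range (f.fiberι (f.base x)) := by rw [Scheme.Hom.range_fiberι]; exact hfz
  obtain ⟨v', rfl⟩ : z' ∈ Set.range (f.fiberι (f.base x)) := by rw [Scheme.Hom.range_fiberι]; exact hfz'
  have hsp : ∀ w, f.fiberι (f.base x) w ⤳ x → w ⤳ f.asFiber x := fun w hw => by
    rw [← (f.fiberι (f.base x)).isEmbedding.isInducing.specializes_iff, Scheme.Hom.fiberι_asFiber]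
    exact hw
  exact congrArg _ (eq_of_isDomain_stalk (f.asFiber x) (hsp v hz) (hsp v' hz')
    (fun w _ hw => (FibDim.fibMax_fiberι_iff f v).1 hm w hw)
    (fun w _ hw => (FibDim.fibMax_fiberι_iff f v').1 hm' w hw))

theorem E_of_ptIntegral (x : X)
    (hint : FBase.IsGeomPtIntegralAt (f.fiberToSpecResidueField (f.base x)) (f.asFiber x)) :
    GeomRedFlat5.E f x := fun K _ _ x' hx' =>
  haveI := hint K x' hx'
  inferInstance

/-- EGA IV 15.3.3, uniqueness of the component. -/
theorem eq_of_maximal (x : X)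
    (hopen : ∀ z : ↥(f.fiber (f.base x)), f.asFiber x ∈ closure {z} →
      (∀ z' : ↥(f.fiber (f.base x)), z ∈ closure {z'} → z' = z) →
      EGA43.IsUnivOpenAt f ((f.fiberι (f.base x)).base z))
    (hint : FBase.IsGeomPtIntegralAt (f.fiberToSpecResidueField (f.base x)) (f.asFiber x))
    (hY : CAlg2.IsGeomUnibranch (Y.presheaf.stalk (f.base x))) {η η' : X} (hη : η ⤳ x) (hη' : η' ⤳ x)
    (hm : ∀ z, z ⤳ η → z = η) (hm' : ∀ z, z ⤳ η' → z = η') : η = η' := by
  haveI := LocallyOfFiniteType.isLocallyNoetherian f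
  obtain ⟨U, hxU, hUo, hUE⟩ := GeomRedFlat5.exists_univOpen_nhd f x hopen (E_of_ptIntegral f x hint)
  obtain ⟨z, hzx, hfz, hzmax, -⟩ := FibDim.exists_fibMax_generization f x
  have hzU : z ∈ U := hzx.mem_open U.isOpen hxU
  -- every component through `x` passes through `z`, with relative dimension that of `z`
  have hdata : ∀ a, a ⤳ x → (∀ v, v ⤳ a → v = a) → a ⤳ z := by
    intro a ha hamax
    by_cases hne : x = a
    · subst hne
      have : z = x := hamax z hzx
      rw [this]
    obtain ⟨A, _, _, _, g, w, θ, -, -, hfm, hθu, -, hpθ, hpux, hpu⟩ := exists_trait f U hUE hxU ha hne hamax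
    have := fibMax_eq f x hint hpux hpu (FibDim.fibMax_of_baseChange (IsPullback.of_hasPullback f g) hfm)
      hzx hfz hzmax
    rw [← hpθ, ← this]
    exact hθu.map (pullback.fst f g).continuous
  have hrd : ∀ a, a ⤳ x → (∀ v, v ⤳ a → v = a) → FibDim.rd f a = FibDim.rd f z := by
    intro a ha hamax
    have haz := hdata a ha hamax
    refine le_antisymm ?_ ?_
    · obtain ⟨v, -, hvz, hfv, hle⟩ := FibDim.exists_rd_ge f haz
      rwa [hzmax v hvz hfv] at hle
    · let zU : (U : Scheme.{u}) := ⟨z, hzU⟩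
      let aU : (U : Scheme.{u}) := ⟨a, haz.mem_open U.isOpen hzU⟩
      have := le_rd_of_maximal (U.ι ≫ f) (η := aU) (x := zU) (U.ι.isOpenEmbedding.isInducing.specializes_iff.1 haz)
        (fun v hv => U.ι.isOpenEmbedding.injective (hamax _ (hv.map U.ι.continuous)))
        (fun v => (GeomRedFlat5.E_comp_openImmersion U.ι f v).2 (hUE _ v.2)) (FibDim.rd f z)
        (fun v hv hfv hvm => by
          rw [FibDim.rd_opens, hzmax _ (hv.map U.ι.continuous) hfv])
      rwa [FibDim.rd_opens] at this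
  have hfmax : ∀ a, a ⤳ x → (∀ v, v ⤳ a → v = a) → ∀ b, b ⤳ f a → b = f a := by
    intro a ha hamax b hb
    obtain ⟨ζ, hζ, hfζ⟩ := FibDim.exists_generization_of_isOpenAt f (x := a)
      (UnivOpen.isOpenAt_of_isUnivOpenAt (isUnivOpenAt_of_mem f U (ha.mem_open U.isOpen hxU))) hb
    rw [← hfζ, hamax ζ hζ]
  -- the component of `η` is universally open at `z`, so contains `η'`
  have hηz := hdata η hη hm
  let S : TopologicalSpace.Closeds X := ⟨closure {η}, isClosed_closure⟩
  let j := (Scheme.IdealSheafData.vanishingIdeal S).subschemeι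
  have hrange : Set.range j = closure {η} := DimFormula.range_vanishingIdeal S
  obtain ⟨η₁, hη₁⟩ : η ∈ Set.range j := by rw [hrange]; exact subset_closure rfl
  obtain ⟨z₁, hz₁⟩ : z ∈ Set.range j := by rw [hrange]; exact specializes_iff_mem_closure.1 hηz
  have hfz₁ : (j ≫ f) z₁ = f x := by rw [Scheme.Hom.comp_apply, hz₁, hfz]
  have hop : EGA43.IsUnivOpenAt (j ≫ f) z₁ := by
    refine UnivOpen.isUnivOpenAt_of_witness (j ≫ f) (hfz₁ ▸ hY) ?_ (η := η₁)
      (j.isClosedEmbedding.isInducing.specializes_iff.1 (by rw [hη₁, hz₁]; exact hηz)) ?_ ?_ ?_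
    · intro v hv hfv
      refine j.isClosedEmbedding.injective (hz₁ ▸ hzmax _ (hz₁ ▸ hv.map j.continuous) ?_)
      rw [← hz₁]; exact hfv
    · intro v hv
      exact j.isClosedEmbedding.injective ((hm _ (hη₁ ▸ hv.map j.continuous)).trans hη₁.symm)
    · rw [Scheme.Hom.comp_apply, hη₁]; exact hfmax η hη hm
    · rw [DimFormula.rd_closedSub, DimFormula.rd_closedSub, hη₁, hz₁, hrd η hη hm]
  have hmem := mem_range_of_univOpenAt f j U hUE hzU hzmax z₁ hz₁ hop (hdata η' hη' hm') hm'
  rw [hrange] at hmem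
  exact hm' η (specializes_iff_mem_closure.2 hmem)

/-- EGA IV 15.3.3. -/
theorem isDomain_stalk_and_flat (x : X)
    (hopen : ∀ z : ↥(f.fiber (f.base x)), f.asFiber x ∈ closure {z} →
      (∀ z' : ↥(f.fiber (f.base x)), z ∈ closure {z'} → z' = z) →
      EGA43.IsUnivOpenAt f ((f.fiberι (f.base x)).base z))
    (hint : FBase.IsGeomPtIntegralAt (f.fiberToSpecResidueField (f.base x)) (f.asFiber x))
    (hY : CAlg2.IsGeomUnibranch (Y.presheaf.stalk (f.base x))) (hd : IsDomain (Y.presheaf.stalk (f.base x))) :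
    IsDomain (X.presheaf.stalk x) ∧ (f.stalkMap x).hom.Flat := by
  haveI := LocallyOfFiniteType.isLocallyNoetherian f
  have hE := E_of_ptIntegral f x hint
  have hfl := FlatDvrVC5.flat_stalkMap_of_univOpen f x hopen hE inferInstance
  refine ⟨?_, hfl⟩
  haveI := GeomRedFlat5.isReduced_stalk_noetherian f x hfl hE
  exact isDomain_stalk_of_unique x fun η η' h h' hm hm' => eq_of_maximal f x hopen hint hY h h' hm hm'

end Groth.Agent.Equidim5
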