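import Groth.Agent.GeomRedFlat5.Nhd
import Groth.Agent.UnivOpen.Criterion
import Groth.Agent.FibDim.Minimal
import Groth.Agent.FibDim.Comp

/-!
# Universally open with geometrically reduced equidimensional fibre implies equidimensional
-/

set_option autoImplicit false
set_option linter.style.haveILetI false
set_option backward.isDefEq.respectTransparency false
set_option backward.isDefEq.respectTransparency.types false

universe u

open CategoryTheory Limits AlgebraicGeometry IsLocalRing

namespace Groth.Agent.Equidim5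

/-- If `t` is regular with reduced quotient and some minimal prime together with `t` is primary to the
maximal ideal, then `t` alone is. -/
theorem eq_maximalIdeal_of_mem {W : Type u} [CommRing W] [IsLocalRing W] [IsNoetherianRing W] {t : W}
    (ht : t ∈ maximalIdeal W) (hreg : ∀ w, t * w = 0 → w = 0)
    (hred : _root_.IsReduced (W ⧸ Ideal.span {t})) {P : Ideal W} (hP : P ∈ minimalPrimes W)
    (hmax : ∀ Q : Ideal W, Q.IsPrime → P ≤ Q → t ∈ Q → Q = maximalIdeal W)
    (Q : Ideal W) [Q.IsPrime] (htQ : t ∈ Q) : Q = maximalIdeal W := by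
  have hass : P ∈ associatedPrimes W W := by
    refine Module.associatedPrimes.minimalPrimes_annihilator_subset_associatedPrimes W W ?_
    rwa [show Module.annihilator W W = ⊥ from Module.annihilator_eq_bot.2 inferInstance]
  obtain ⟨-, a, hPa⟩ := isAssociatedPrime_iff.1 hass
  have hmem : ∀ p, p ∈ P ↔ p * a = 0 := fun p => by
    rw [hPa, Submodule.mem_colon_singleton, Submodule.mem_bot, smul_eq_mul]
  have ha0 : a ≠ 0 := fun h => hP.1.1.ne_top ((Ideal.eq_top_iff_one P).2 ((hmem 1).2 (by rw [h, mul_zero])))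
  have hex : ∃ n, ¬ ∃ b, a = t ^ (n + 1) * b := by
    by_contra hne
    push Not at hne
    refine ha0 ?_
    have hI : Ideal.span {t} ≠ ⊤ := fun h => (maximalIdeal.isMaximal W).ne_top
      (top_le_iff.1 (h ▸ (Ideal.span_singleton_le_iff_mem _).2 ht))
    have hinf := Ideal.iInf_pow_eq_bot_of_isLocalRing (Ideal.span {t}) hI
    rw [← Ideal.mem_bot, ← hinf, Submodule.mem_iInf]
    intro n
    obtain ⟨b, hb⟩ := hne n
    rw [Ideal.span_singleton_pow, Ideal.mem_span_singleton, hb]
    exact Dvd.intro (t * b) (by ring)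
  classical
  have hregpow : ∀ n w, t ^ n * w = 0 → w = 0 := fun n => by
    induction n with
    | zero => intro w h; simpa using h
    | succ n ih => intro w h; rw [pow_succ, mul_assoc] at h; exact hreg _ (ih _ h)
  obtain ⟨b, hab⟩ : ∃ b, a = t ^ (Nat.find hex) * b := by
    rcases Nat.eq_zero_or_pos (Nat.find hex) with h | h
    · exact ⟨a, by rw [h, pow_zero, one_mul]⟩
    · have := Nat.find_min hex (Nat.sub_lt h Nat.one_pos)
      rw [not_not, Nat.sub_add_cancel h] at this
      exact this
  have hnb : b ∉ Ideal.span {t} := fun hb => by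
    obtain ⟨c, hc⟩ := Ideal.mem_span_singleton'.1 hb
    exact Nat.find_spec hex ⟨c, by rw [pow_succ, mul_assoc, mul_comm t c, hc, ← hab]⟩
  have hrad : b ∉ (Ideal.span {t}).radical := fun hb => hnb (by
    rwa [(Ideal.isRadical_iff_quotient_reduced _).2 hred |>.radical] at hb)
  rw [Ideal.radical_eq_sInf, Submodule.mem_sInf] at hrad
  push Not at hrad
  obtain ⟨q, ⟨htq, hq⟩, hbq⟩ := hrad
  have hann : ∀ p ∈ P, p * b = 0 := fun p hp => by
    refine hregpow (Nat.find hex) _ ?_
    rw [mul_left_comm, ← hab]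
    exact (hmem p).1 hp
  have hPq : P ≤ q := fun p hp => (hq.mem_or_mem (by rw [hann p hp]; exact q.zero_mem)).resolve_right hbq
  have hqm : q = maximalIdeal W := hmax q hq hPq (htq (Ideal.mem_span_singleton_self t))
  have hbu : IsUnit b := by
    by_contra h
    exact hbq (hqm ▸ h)
  have hPbot : P = ⊥ := eq_bot_iff.2 fun p hp => by
    rw [Ideal.mem_bot]
    exact hbu.mul_left_eq_zero.1 (hann p hp)
  exact hmax Q inferInstance (hPbot ▸ bot_le) htQ

set_option maxHeartbeats 800000 in
/-- Over a trait, with flatness and reduced special fibre, the largest points of the special fibre in an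
irreducible component are maximal in the special fibre. -/
theorem fibMax_of_component {X : Scheme.{u}} {A : Type u} [CommRing A] [IsDomain A] [IsDiscreteValuationRing A]
    (q : X ⟶ Spec (CommRingCat.of A)) [LocallyOfFiniteType q] {y : Spec (CommRingCat.of A)}
    (hy : y = closedPoint A) (w : ↥(q.fiber y)) (hflat : (q.stalkMap (q.fiberι y w)).hom.Flat)
    (hred : _root_.IsReduced ((q.fiber y).presheaf.stalk w)) {θ : X} (hθ : θ ⤳ q.fiberι y w)
    (hθmax : ∀ z, z ⤳ θ → z = θ)
    (hmax : ∀ z, θ ⤳ z → z ⤳ q.fiberι y w → q z = q (q.fiberι y w) → z = q.fiberι y w) :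
    FibDim.FibMax q (q.fiberι y w) := by
  haveI : IsLocallyNoetherian (Spec (CommRingCat.of A)) := inferInstance
  haveI := LocallyOfFiniteType.isLocallyNoetherian q
  set x := q.fiberι y w with hxdef
  have hqx : q x = closedPoint A := (FlatDvr.fiberι_apply_eq q w).trans hy
  obtain ⟨hdom, hdvr⟩ := FlatDvr.isDvr_stalk hqx
  let O := (Spec (CommRingCat.of A)).presheaf.stalk (q x)
  let φ : O →+* X.presheaf.stalk x := (q.stalkMap x).hom
  obtain ⟨π, hπ⟩ := IsDiscreteValuationRing.exists_irreducible O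
  have hm := (IsDiscreteValuationRing.irreducible_iff_uniformizer π).1 hπ
  have hker : RingHom.ker ((q.fiberι y).stalkMap w).hom = Ideal.span {φ π} := by
    rw [FlatDvr.ker_stalkMap_fiberι]
    show (maximalIdeal O).map φ = _
    rw [hm, Ideal.map_span, Set.image_singleton]
  have ht : φ π ∈ maximalIdeal (X.presheaf.stalk x) := fun hu => hπ.not_isUnit (isUnit_of_map_unit φ π hu)
  have hreg : ∀ v, φ π * v = 0 → v = 0 := by
    letI := φ.toAlgebra
    haveI : Module.Flat O (X.presheaf.stalk x) := hflat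
    intro v hv
    have hπreg : IsSMulRegular O π := fun a b h => mul_left_cancel₀ hπ.ne_zero h
    have := IsSMulRegular.of_flat (S := X.presheaf.stalk x) hπreg
    exact this (show φ π * v = φ π * 0 by rw [hv, mul_zero])
  haveI := hred
  have hq : _root_.IsReduced (X.presheaf.stalk x ⧸ Ideal.span {φ π}) := by
    rw [← Ideal.isRadical_iff_quotient_reduced, ← hker]
    intro v hv
    obtain ⟨n, hn⟩ := hv
    rw [RingHom.mem_ker, map_pow] at hn
    rw [RingHom.mem_ker]
    exact IsNilpotent.eq_zero ⟨n, hn⟩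
  have hpt : ∀ p : PrimeSpectrum (X.presheaf.stalk x),
      φ π ∈ p.asIdeal ↔ q (X.fromSpecStalk x p) = q x := fun p => by
    have h1 : q (X.fromSpecStalk x p) = (Spec (CommRingCat.of A)).fromSpecStalk (q x)
        (PrimeSpectrum.comap φ p) := UnivOpen.map_fromSpecStalk q (x := x) p
    have h2 : φ π ∈ p.asIdeal ↔ PrimeSpectrum.comap φ p = closedPoint O := by
      refine ⟨fun h => PrimeSpectrum.ext ?_, fun h => ?_⟩
      · refine ((maximalIdeal.isMaximal O).eq_of_le (Ideal.IsPrime.ne_top inferInstance) ?_).symm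
        rw [hm, Ideal.span_le, Set.singleton_subset_iff]
        exact h
      · have : π ∈ (PrimeSpectrum.comap φ p).asIdeal := by
          rw [h]
          show π ∈ maximalIdeal O
          rw [hm]
          exact Ideal.mem_span_singleton_self π
        exact this
    rw [h2, h1]
    refine ⟨fun h => by rw [h]; exact Scheme.fromSpecStalk_closedPoint, fun h => ?_⟩
    exact ((Spec (CommRingCat.of A)).fromSpecStalk (q x)).isEmbedding.injective
      (h.trans Scheme.fromSpecStalk_closedPoint.symm)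
  have hsp : ∀ p p' : PrimeSpectrum (X.presheaf.stalk x),
      p.asIdeal ≤ p'.asIdeal ↔ X.fromSpecStalk x p ⤳ X.fromSpecStalk x p' := fun p p' => by
    rw [(X.fromSpecStalk x).isEmbedding.isInducing.specializes_iff]
    exact PrimeSpectrum.le_iff_specializes p p'
  have hto : ∀ p : PrimeSpectrum (X.presheaf.stalk x), X.fromSpecStalk x p ⤳ x := fun p => by
    have : X.fromSpecStalk x p ∈ Set.range (X.fromSpecStalk x) := ⟨p, rfl⟩
    rwa [Scheme.range_fromSpecStalk] at this
  obtain ⟨P, rfl⟩ := DimFormula.fromSpecStalk_range_of_specializes hθ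
  let P' : PrimeSpectrum (X.presheaf.stalk x) := P
  have hP : P'.asIdeal ∈ minimalPrimes (X.presheaf.stalk x) := by
    refine ⟨⟨P'.2, bot_le⟩, fun Q hQ hQP => ?_⟩
    haveI := hQ.1
    have h := hθmax _ ((hsp ⟨Q, hQ.1⟩ P').1 hQP)
    exact (congrArg PrimeSpectrum.asIdeal ((X.fromSpecStalk x).isEmbedding.injective h)).ge
  have key := eq_maximalIdeal_of_mem ht hreg hq hP (fun Q hQ hPQ htQ => by
    haveI := hQ
    have h := hmax _ ((hsp P' ⟨Q, hQ⟩).1 hPQ) (hto ⟨Q, hQ⟩) ((hpt ⟨Q, hQ⟩).1 htQ)
    exact congrArg PrimeSpectrum.asIdeal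
      ((X.fromSpecStalk x).isEmbedding.injective (h.trans Scheme.fromSpecStalk_closedPoint.symm)))
  intro z hz hqz
  obtain ⟨Q, rfl⟩ := DimFormula.fromSpecStalk_range_of_specializes hz
  let Q' : PrimeSpectrum (X.presheaf.stalk x) := Q
  have := key Q'.asIdeal ((hpt Q').2 hqz)
  rw [show Q = closedPoint (X.presheaf.stalk x) from PrimeSpectrum.ext this]
  exact Scheme.fromSpecStalk_closedPoint

variable {X Y : Scheme.{u}} [IsLocallyNoetherian Y] (f : X ⟶ Y) [LocallyOfFiniteType f]

/-- The relative degree at the maximal points of a fibre through a point, from the dimensions of components. -/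
theorem rd_eq_of_components (x : X) (e : ℕ)
    (heq : ∀ Z ∈ irreducibleComponents (↥(f.fiber (f.base x)) : Type u), f.asFiber x ∈ Z →
      topologicalKrullDim (↥Z : Type u) = e)
    {z : X} (hz : z ⤳ x) (hfz : f z = f x) (hmax : FibDim.FibMax f z) : FibDim.rd f z = e := by
  obtain ⟨v, rfl⟩ : z ∈ Set.range (f.fiberι (f.base x)) := by rw [Scheme.Hom.range_fiberι]; exact hfz
  have h := heq (closure {v}) (FDescent.closure_mem_irreducibleComponents ((FibDim.fibMax_fiberι_iff f v).1 hmax))
    (specializes_iff_mem_closure.1 ((f.fiberι (f.base x)).isEmbedding.isInducing.specializes_iff.1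
      (by rw [Scheme.Hom.fiberι_asFiber]; exact hz)))
  rw [VarDim.topologicalKrullDim_closure_singleton (k := Y.residueField _)
    (f.fiberToSpecResidueField (f.base x)), FibDim.deg_fiber] at h
  exact_mod_cast h

/-- The generic points of the components through `x` have the fibre dimension at `x`. -/
theorem le_rd_of_maximal [UniversallyOpen f] {η x : X} (hηx : η ⤳ x) (hηmax : ∀ z, z ⤳ η → z = η)
    (hE : ∀ z, GeomRedFlat5.E f z) (e : ℕ)
    (he : ∀ z, z ⤳ x → f z = f x → FibDim.FibMax f z → FibDim.rd f z = e) : e ≤ FibDim.rd f η := by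
  haveI := LocallyOfFiniteType.isLocallyNoetherian f
  by_cases hne : x = η
  · subst hne
    exact (he x (specializes_refl x) rfl (fun z hz _ => hηmax z hz)).ge
  obtain ⟨A, _, _, _, τ, hτc, hτg⟩ := UnivOpen.exists_dvr_lift hηx hne
  let g := τ ≫ f
  let q := pullback.snd f g
  let p := pullback.fst f g
  let σ : Spec (CommRingCat.of A) ⟶ pullback f g := pullback.lift τ (𝟙 _) (by simp [g])
  let c : Spec (CommRingCat.of A) := closedPoint A
  let o : Spec (CommRingCat.of A) := (⟨⊥, Ideal.isPrime_bot⟩ : PrimeSpectrum A)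
  have hoc : o ≠ c := fun h => IsDiscreteValuationRing.not_a_field A (congrArg PrimeSpectrum.asIdeal h).symm
  have hpσ : ∀ t, p (σ t) = τ t := fun t => by
    rw [← Scheme.Hom.comp_apply, pullback.lift_fst]
  have hqσ : ∀ t, q (σ t) = t := fun t => by
    rw [← Scheme.Hom.comp_apply, pullback.lift_snd]; rfl
  obtain ⟨θ, hθ, hθmax⟩ := FibDim.exists_maximal_generization (σ o)
  have hoσ : σ o ⤳ σ c := ((PrimeSpectrum.le_iff_specializes (⟨⊥, Ideal.isPrime_bot⟩ : PrimeSpectrum A)
    (closedPoint A)).1 bot_le).map σ.continuous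
  have hqθ : q θ = o := by
    have h1 : q θ ⤳ o := hqσ o ▸ hθ.map q.continuous
    exact PrimeSpectrum.ext (le_bot_iff.1 ((PrimeSpectrum.le_iff_specializes (q θ : PrimeSpectrum A) _).2 h1))
  have hpθ : p θ = η := hηmax _ ((hθ.map p.continuous).trans (specializes_of_eq ((hpσ o).trans (hτg o hoc))))
  obtain ⟨u, hu, huc, hqu, humax⟩ := FibDim.exists_max_rd q (Z := closure {θ})
    (specializes_iff_mem_closure.1 (hθ.trans hoσ))
  have hθu : θ ⤳ u := specializes_iff_mem_closure.2 hu
  have hqu' : q u = c := hqu.trans (hqσ c)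
  obtain ⟨w, hw⟩ : u ∈ Set.range (q.fiberι c) := by rw [Scheme.Hom.range_fiberι]; exact hqu'
  haveI : IsLocallyNoetherian (Spec (CommRingCat.of A)) := inferInstance
  haveI : UniversallyOpen q := MorphismProperty.pullback_snd (P := @UniversallyOpen) _ _ inferInstance
  have hEq : ∀ z, GeomRedFlat5.E q z := fun z =>
    (GeomRedFlat5.E_iff_of_isPullback (IsPullback.of_hasPullback f g) z).2 (hE _)
  have hflat : (q.stalkMap (q.fiberι c w)).hom.Flat :=
    FlatDvrVC5.flat_stalkMap_of_univOpen q _ (fun z _ _ Y' g' x' _ U hU => by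
      haveI : UniversallyOpen (pullback.snd q g') :=
        MorphismProperty.pullback_snd (P := @UniversallyOpen) _ _ inferInstance
      exact (pullback.snd q g').isOpenMap.image_mem_nhds hU) (hEq _) inferInstance
  have hpu : f (p u) = f x := by
    rw [← Scheme.Hom.comp_apply, pullback.condition, Scheme.Hom.comp_apply, hqu']
    show (τ ≫ f) c = f x
    rw [Scheme.Hom.comp_apply, hτc]
  have hred : _root_.IsReduced ((q.fiber c).presheaf.stalk w) := by
    refine UnivOpen.isReduced_fibre_baseChange f g ?_ (f.asFiber (p u)) (hE (p u)) w ?_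
    · rw [hpu]
      show (τ ≫ f) c = f x
      rw [Scheme.Hom.comp_apply, hτc]
    · rw [Scheme.Hom.fiberι_asFiber, hw]
  have hfm : FibDim.FibMax q u := by
    rw [← hw]
    refine fibMax_of_component q rfl w hflat hred (hw.symm ▸ hθu) hθmax fun z h1 h2 h3 => ?_
    rw [hw] at h2 h3 ⊢
    by_contra hne'
    exact absurd (humax z (specializes_iff_mem_closure.1 h1) (h2.trans huc) (h3.trans hqu))
      (not_le.2 (FibDim.rd_lt q h2 hne' h3))
  have sq := IsPullback.of_hasPullback f g
  have hrd : FibDim.rd q u = e := by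
    rw [FibDim.rd_baseChange_eq_of_minimal sq u fun v hv _ hqv => hfm v hv hqv]
    exact he _ ((huc.map p.continuous).trans (specializes_of_eq ((hpσ c).trans hτc))) hpu
      (FibDim.fibMax_of_baseChange sq hfm)
  rw [← hrd, ← hpθ]
  refine le_trans ?_ (FibDim.rd_baseChange_le sq θ)
  refine FibDim.rd_le_of_valuationRing q hθu fun t => ?_
  rw [hqθ]
  exact (PrimeSpectrum.le_iff_specializes (⟨⊥, Ideal.isPrime_bot⟩ : PrimeSpectrum A) (t : PrimeSpectrum A)).1 bot_le

/-- EGA IV 14.4.8 (ii): equidimensionality. -/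
theorem isEquidimAt (x : X)
    (hopen : ∀ z : ↥(f.fiber (f.base x)), f.asFiber x ∈ closure {z} →
      (∀ z' : ↥(f.fiber (f.base x)), z ∈ closure {z'} → z' = z) →
      EGA43.IsUnivOpenAt f ((f.fiberι (f.base x)).base z))
    (hred : GeomRedFlat5.E f x) (e : ℕ)
    (heq : ∀ Z ∈ irreducibleComponents (↥(f.fiber (f.base x)) : Type u), f.asFiber x ∈ Z →
      topologicalKrullDim (↥Z : Type u) = e) :
    EGA43.IsEquidimAt f x := by
  haveI := LocallyOfFiniteType.isLocallyNoetherian f
  obtain ⟨U, hxU, hUo, hUE⟩ := GeomRedFlat5.exists_univOpen_nhd f x hopen hred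
  have he : ∀ z, z ⤳ x → f z = f x → FibDim.FibMax f z → FibDim.rd f z = e :=
    fun z h1 h2 h3 => rd_eq_of_components f x e heq h1 h2 h3
  let xU : (U : Scheme.{u}) := ⟨x, hxU⟩
  have hkey : ∀ η, η ⤳ x → (∀ z, z ⤳ η → z = η) → e ≤ FibDim.rd f η := fun η hη hmax => by
    let ηU : (U : Scheme.{u}) := ⟨η, hη.mem_open U.isOpen hxU⟩
    have := le_rd_of_maximal (U.ι ≫ f) (η := ηU) (x := xU) (U.ι.isOpenEmbedding.isInducing.specializes_iff.1 hη)
      (fun z hz => U.ι.isOpenEmbedding.injective (hmax _ (hz.map U.ι.continuous)))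
      (fun z => (GeomRedFlat5.E_comp_openImmersion U.ι f z).2 (hUE _ z.2)) e
      (fun z hz hfz hm => by
        rw [FibDim.rd_opens]
        exact he _ (hz.map U.ι.continuous) hfz ((FibDim.fibMax_opens_iff f U z).1 hm))
    rwa [FibDim.rd_opens] at this
  have hdim : FlatMor.fibreDimAt f x ≤ e := by
    rw [FibDim.fibreDimAt_le_iff]
    intro z hz hfz
    obtain ⟨v, hvz, hfv, hvmax, hve⟩ := FibDim.exists_fibMax_generization f z
    have h1 := FibDim.rd_le_fibreDimAt f (specializes_refl z) rfl
    rw [hve, he v (hvz.trans hz) (hfv.trans hfz) hvmax] at h1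
    exact_mod_cast h1
  obtain ⟨W₁, hxW₁, hW₁⟩ := FibDim.exists_nhd_rd_le f x e hdim
  obtain ⟨W₂, hxW₂, hW₂⟩ := FibDim.exists_nhd_generizing (X := X) isClosed_univ x
  refine (FibDim.isEquidimAt_iff f x).2 ⟨e, U ⊓ W₁ ⊓ W₂, ⟨⟨hxU, hxW₁⟩, hxW₂⟩, fun η hη hmax => ?_,
    fun z hz hzmax => ?_⟩
  · obtain ⟨η', -, h1, h2⟩ := hW₂ η hη.2 trivial
    have hηη : η' = η := hmax η' h2
    subst hηη
    refine ⟨fun y hy => ?_, h1.map f.continuous⟩
    obtain ⟨ζ, hζ, hfζ⟩ := FibDim.exists_generization_of_isOpenAt (U.ι ≫ f) (x := ⟨η', hη.1.1⟩)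
      (fun V hV => (U.ι ≫ f).isOpenMap.image_mem_nhds hV) (y' := y) hy
    rw [← hfζ]
    exact congrArg f (hmax (U.ι ζ) (hζ.map U.ι.continuous))
  · refine le_antisymm (hW₁ z hz.1.2) ?_
    obtain ⟨η', -, h1, h2⟩ := hW₂ z hz.2 trivial
    obtain ⟨η, hη, hηmax⟩ := FibDim.exists_maximal_generization η'
    obtain ⟨v, -, hvz, hfv, hle⟩ := FibDim.exists_rd_ge f (hη.trans h2)
    rw [hzmax v hvz hfv] at hle
    exact (hkey η (hη.trans h1) hηmax).trans hle

end Groth.Agent.Equidim5
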