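import Groth.Agent.Equidim5.Main

/-!
# Traits through a component and branches at a geometrically reduced maximal point of a fibre
-/

set_option autoImplicit false
set_option linter.style.haveILetI false
set_option backward.isDefEq.respectTransparency false
set_option backward.isDefEq.respectTransparency.types false

universe u

open CategoryTheory Limits AlgebraicGeometry IsLocalRing

namespace Groth.Agent.Equidim5

/-- The equation of the special fibre at a point. -/
theorem exists_equation {X : Scheme.{u}} {A : Type u} [CommRing A] [IsDomain A] [IsDiscreteValuationRing A]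
    (q : X ⟶ Spec (CommRingCat.of A)) [LocallyOfFiniteType q] {y : Spec (CommRingCat.of A)}
    (hy : y = closedPoint A) (w : ↥(q.fiber y))
    (hflat : (q.stalkMap (q.fiberι y w)).hom.Flat) (hred : _root_.IsReduced ((q.fiber y).presheaf.stalk w)) :
    ∃ t ∈ maximalIdeal (X.presheaf.stalk (q.fiberι y w)),
      (∀ v, t * v = 0 → v = 0) ∧ (Ideal.span {t}).IsRadical ∧
      ∀ p : PrimeSpectrum (X.presheaf.stalk (q.fiberι y w)),
        t ∈ p.asIdeal ↔ q (X.fromSpecStalk (q.fiberι y w) p) = q (q.fiberι y w) := by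
  haveI : IsLocallyNoetherian (Spec (CommRingCat.of A)) := inferInstance
  set x := q.fiberι y w with hxdef
  have hqx : q x = closedPoint A := (FlatDvr.fiberι_apply_eq q w).trans hy
  obtain ⟨hdom, hdvr⟩ := FlatDvr.isDvr_stalk hqx
  let O := (Spec (CommRingCat.of A)).presheaf.stalk (q x)
  let φ : O →+* X.presheaf.stalk x := (q.stalkMap x).hom
  obtain ⟨π, hπ⟩ := IsDiscreteValuationRing.exists_irreducible O
  have hm := (IsDiscreteValuationRing.irreducible_iff_uniformizer π).1 hπ
  have hker : RingHom.ker ((q.fiberι y).stalkMap w).hom = Ideal.span {φ π} := by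
    rw [FlatDvr.ker_stalkMap_fiberι]
    show (maximalIdeal O).map φ = _
    rw [hm, Ideal.map_span, Set.image_singleton]
  refine ⟨φ π, fun hu => hπ.not_isUnit (isUnit_of_map_unit φ π hu), ?_, ?_, fun p => ?_⟩
  · letI := φ.toAlgebra
    haveI : Module.Flat O (X.presheaf.stalk x) := hflat
    intro v hv
    have hπreg : IsSMulRegular O π := fun a b h => mul_left_cancel₀ hπ.ne_zero h
    have := IsSMulRegular.of_flat (S := X.presheaf.stalk x) hπreg
    exact this (show φ π * v = φ π * 0 by rw [hv, mul_zero])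
  · haveI := hred
    rw [← hker]
    rintro v ⟨n, hn⟩
    rw [RingHom.mem_ker, map_pow] at hn
    rw [RingHom.mem_ker]
    exact IsNilpotent.eq_zero ⟨n, hn⟩
  · have h1 : q (X.fromSpecStalk x p) = (Spec (CommRingCat.of A)).fromSpecStalk (q x)
        (PrimeSpectrum.comap φ p) := UnivOpen.map_fromSpecStalk q (x := x) p
    have h2 : φ π ∈ p.asIdeal ↔ PrimeSpectrum.comap φ p = closedPoint O := by
      refine ⟨fun h => PrimeSpectrum.ext ?_, fun h => ?_⟩
      · refine ((maximalIdeal.isMaximal O).eq_of_le (Ideal.IsPrime.ne_top inferInstance) ?_).symm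
        rw [hm, Ideal.span_le, Set.singleton_subset_iff]
        exact h
      · have : π ∈ (PrimeSpectrum.comap φ p).asIdeal := by
          rw [h]
          show π ∈ maximalIdeal O
          rw [hm]
          exact Ideal.mem_span_singleton_self π
        exact this
    rw [h2, h1]
    refine ⟨fun h => by rw [h]; exact Scheme.fromSpecStalk_closedPoint, fun h => ?_⟩
    exact ((Spec (CommRingCat.of A)).fromSpecStalk (q x)).isEmbedding.injective
      (h.trans Scheme.fromSpecStalk_closedPoint.symm)

/-- A maximal point of a reduced special fibre of a flat family over a trait lies on one branch only. -/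
theorem eq_of_specializes {X : Scheme.{u}} {A : Type u} [CommRing A] [IsDomain A] [IsDiscreteValuationRing A]
    (q : X ⟶ Spec (CommRingCat.of A)) [LocallyOfFiniteType q] {y : Spec (CommRingCat.of A)}
    (hy : y = closedPoint A) (w : ↥(q.fiber y))
    (hflat : (q.stalkMap (q.fiberι y w)).hom.Flat) (hred : _root_.IsReduced ((q.fiber y).presheaf.stalk w))
    (hmax : FibDim.FibMax q (q.fiberι y w)) {θ θ' : X} (hθ : θ ⤳ q.fiberι y w) (hθ' : θ' ⤳ q.fiberι y w)
    (hne : q θ ≠ q (q.fiberι y w)) (hne' : q θ' ≠ q (q.fiberι y w)) : θ = θ' := by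
  haveI : IsLocallyNoetherian (Spec (CommRingCat.of A)) := inferInstance
  haveI := LocallyOfFiniteType.isLocallyNoetherian q
  set x := q.fiberι y w with hxdef
  obtain ⟨t, ht, -, hrad, hpt⟩ := exists_equation q hy w hflat hred
  have hto : ∀ p : PrimeSpectrum (X.presheaf.stalk x), X.fromSpecStalk x p ⤳ x := fun p => by
    have : X.fromSpecStalk x p ∈ Set.range (X.fromSpecStalk x) := ⟨p, rfl⟩
    rwa [Scheme.range_fromSpecStalk] at this
  have hm : maximalIdeal (X.presheaf.stalk x) ≤ Ideal.span {t} := by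
    rw [← hrad.radical, Ideal.radical_eq_sInf]
    refine le_sInf ?_
    rintro Q ⟨htQ, hQ⟩
    have h := hmax _ (hto ⟨Q, hQ⟩) ((hpt ⟨Q, hQ⟩).1 (htQ (Ideal.mem_span_singleton_self t)))
    exact (congrArg PrimeSpectrum.asIdeal
      ((X.fromSpecStalk x).isEmbedding.injective (h.trans Scheme.fromSpecStalk_closedPoint.symm))).ge
  have key : ∀ p : PrimeSpectrum (X.presheaf.stalk x), t ∉ p.asIdeal → p.asIdeal = ⊥ := fun p htp => by
    have hpow : ∀ n, p.asIdeal ≤ (Ideal.span {t}) ^ n := fun n => by
      induction n with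
      | zero => rw [pow_zero, Ideal.one_eq_top]; exact le_top
      | succ n ih =>
        intro a ha
        obtain ⟨b, rfl⟩ := Ideal.mem_span_singleton'.1 (hm (IsLocalRing.le_maximalIdeal p.isPrime.ne_top ha))
        rw [pow_succ]
        exact Ideal.mul_mem_mul (ih ((p.isPrime.mem_or_mem ha).resolve_right htp)) (Ideal.mem_span_singleton_self t)
    have hI : Ideal.span {t} ≠ ⊤ := fun h => (maximalIdeal.isMaximal (X.presheaf.stalk x)).ne_top
      (top_le_iff.1 (h ▸ (Ideal.span_singleton_le_iff_mem _).2 ht))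
    rw [eq_bot_iff, ← Ideal.iInf_pow_eq_bot_of_isLocalRing (Ideal.span {t}) hI]
    exact le_iInf hpow
  obtain ⟨p, rfl⟩ := DimFormula.fromSpecStalk_range_of_specializes hθ
  obtain ⟨p', rfl⟩ := DimFormula.fromSpecStalk_range_of_specializes hθ'
  let a : PrimeSpectrum (X.presheaf.stalk x) := p
  let a' : PrimeSpectrum (X.presheaf.stalk x) := p'
  have h : a = a' := PrimeSpectrum.ext ((key a (fun h => hne ((hpt a).1 h))).trans
    (key a' (fun h => hne' ((hpt a').1 h))).symm)
  exact congrArg (X.fromSpecStalk x) h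

variable {X Y : Scheme.{u}} [IsLocallyNoetherian Y] (f : X ⟶ Y) [LocallyOfFiniteType f]

theorem isUnivOpenAt_of_mem (U : X.Opens) [UniversallyOpen (U.ι ≫ f)] {z : X} (hz : z ∈ U) :
    EGA43.IsUnivOpenAt f z := by
  let zU : (U : Scheme.{u}) := ⟨z, hz⟩
  have h : EGA43.IsUnivOpenAt (U.ι ≫ f) zU := fun Y' g z' _ V hV =>
    haveI : UniversallyOpen (pullback.snd (U.ι ≫ f) g) :=
      MorphismProperty.pullback_snd (P := @UniversallyOpen) _ _ inferInstance
    (pullback.snd (U.ι ≫ f) g).isOpenMap.image_mem_nhds hV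
  exact QHomeo.univOpenAt_of_comp h

set_option maxHeartbeats 800000 in
/-- A trait through the generic point of a component and a point, with a maximal point of its special fibre. -/
theorem exists_trait (U : X.Opens) [UniversallyOpen (U.ι ≫ f)] (hE : ∀ z ∈ U, GeomRedFlat5.E f z)
    {η x : X} (hx : x ∈ U) (hηx : η ⤳ x) (hne : x ≠ η) (hηmax : ∀ z, z ⤳ η → z = η) :
    ∃ (A : Type u) (_ : CommRing A) (_ : IsDomain A) (_ : IsDiscreteValuationRing A)
      (g : Spec (CommRingCat.of A) ⟶ Y) (w : ↥((pullback.snd f g).fiber (closedPoint A : PrimeSpectrum A)))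
      (θ : ↥(pullback f g)),
      ((pullback.snd f g).stalkMap ((pullback.snd f g).fiberι (closedPoint A : PrimeSpectrum A) w)).hom.Flat ∧
      _root_.IsReduced (((pullback.snd f g).fiber (closedPoint A : PrimeSpectrum A)).presheaf.stalk w) ∧
      FibDim.FibMax (pullback.snd f g) ((pullback.snd f g).fiberι (closedPoint A : PrimeSpectrum A) w) ∧
      θ ⤳ (pullback.snd f g).fiberι (closedPoint A : PrimeSpectrum A) w ∧
      pullback.snd f g θ = (⟨⊥, Ideal.isPrime_bot⟩ : PrimeSpectrum A) ∧
      pullback.fst f g θ = η ∧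
      pullback.fst f g ((pullback.snd f g).fiberι (closedPoint A : PrimeSpectrum A) w) ⤳ x ∧
      f (pullback.fst f g ((pullback.snd f g).fiberι (closedPoint A : PrimeSpectrum A) w)) = f x := by
  haveI := LocallyOfFiniteType.isLocallyNoetherian f
  obtain ⟨A, _, _, _, τ, hτc, hτg⟩ := UnivOpen.exists_dvr_lift hηx hne
  let g := τ ≫ f
  let q := pullback.snd f g
  let p := pullback.fst f g
  let σ : Spec (CommRingCat.of A) ⟶ pullback f g := pullback.lift τ (𝟙 _) (by simp [g])
  let c : Spec (CommRingCat.of A) := closedPoint A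
  let o : Spec (CommRingCat.of A) := (⟨⊥, Ideal.isPrime_bot⟩ : PrimeSpectrum A)
  have hoc : o ≠ c := fun h => IsDiscreteValuationRing.not_a_field A (congrArg PrimeSpectrum.asIdeal h).symm
  have hpσ : ∀ t, p (σ t) = τ t := fun t => by
    rw [← Scheme.Hom.comp_apply, pullback.lift_fst]
  have hqσ : ∀ t, q (σ t) = t := fun t => by
    rw [← Scheme.Hom.comp_apply, pullback.lift_snd]; rfl
  obtain ⟨θ, hθ, hθmax⟩ := FibDim.exists_maximal_generization (σ o)
  have hoσ : σ o ⤳ σ c := ((PrimeSpectrum.le_iff_specializes (⟨⊥, Ideal.isPrime_bot⟩ : PrimeSpectrum A)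
    (closedPoint A)).1 bot_le).map σ.continuous
  have hqθ : q θ = o := by
    have h1 : q θ ⤳ o := hqσ o ▸ hθ.map q.continuous
    exact PrimeSpectrum.ext (le_bot_iff.1 ((PrimeSpectrum.le_iff_specializes (q θ : PrimeSpectrum A) _).2 h1))
  have hpθ : p θ = η := hηmax _ ((hθ.map p.continuous).trans (specializes_of_eq ((hpσ o).trans (hτg o hoc))))
  obtain ⟨u, hu, huc, hqu, humax⟩ := FibDim.exists_max_rd q (Z := closure {θ})
    (specializes_iff_mem_closure.1 (hθ.trans hoσ))
  have hθu : θ ⤳ u := specializes_iff_mem_closure.2 hu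
  have hqu' : q u = c := hqu.trans (hqσ c)
  obtain ⟨w, hw⟩ : u ∈ Set.range (q.fiberι c) := by rw [Scheme.Hom.range_fiberι]; exact hqu'
  haveI : IsLocallyNoetherian (Spec (CommRingCat.of A)) := inferInstance
  have hpux : p u ⤳ x := (huc.map p.continuous).trans (specializes_of_eq ((hpσ c).trans hτc))
  have hpU : ∀ z, z ⤳ u → p z ∈ U := fun z hz => ((hz.map p.continuous).trans hpux).mem_open U.isOpen hx
  have sq := IsPullback.of_hasPullback f g
  have hflat : (q.stalkMap (q.fiberι c w)).hom.Flat := by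
    refine FlatDvrVC5.flat_stalkMap_of_univOpen q _ (fun z hz _ => ?_) ?_ inferInstance
    · refine QHomeo.univOpenAt_of_isPullback (isUnivOpenAt_of_mem f U ?_) sq _ rfl
      have h := (specializes_iff_mem_closure.2 hz).map (q.fiberι _).continuous
      rw [Scheme.Hom.fiberι_asFiber] at h
      exact hpU _ (h.trans (specializes_of_eq hw))
    · exact (GeomRedFlat5.E_iff_of_isPullback sq _).2 (hE _ (hpU _ (specializes_of_eq hw)))
  have hpu : f (p u) = f x := by
    rw [← Scheme.Hom.comp_apply, pullback.condition, Scheme.Hom.comp_apply, hqu']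
    show (τ ≫ f) c = f x
    rw [Scheme.Hom.comp_apply, hτc]
  have hred : _root_.IsReduced ((q.fiber c).presheaf.stalk w) := by
    refine UnivOpen.isReduced_fibre_baseChange f g ?_ (f.asFiber (p u)) (hE (p u) (hpU u (specializes_refl u))) w ?_
    · rw [hpu]
      show (τ ≫ f) c = f x
      rw [Scheme.Hom.comp_apply, hτc]
    · rw [Scheme.Hom.fiberι_asFiber, hw]
  have hfm : FibDim.FibMax q (q.fiberι c w) := by
    refine fibMax_of_component q rfl w hflat hred (hw.symm ▸ hθu) hθmax fun z h1 h2 h3 => ?_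
    rw [hw] at h2 h3 ⊢
    by_contra hne'
    exact absurd (humax z (specializes_iff_mem_closure.1 h1) (h2.trans huc) (h3.trans hqu))
      (not_le.2 (FibDim.rd_lt q h2 hne' h3))
  exact ⟨A, inferInstance, inferInstance, inferInstance, g, w, θ, hflat, hred, hfm, hw.symm ▸ hθu, hqθ, hpθ,
    hw.symm ▸ hpux, hw.symm ▸ hpu⟩

/-- EGA IV 14.4.7: at a maximal point of a fibre where this fibre is geometrically reduced, a universally open
component contains every component. -/
theorem mem_range_of_univOpenAt {T : Scheme.{u}} (i : T ⟶ X) [LocallyOfFiniteType i] (U : X.Opens) [UniversallyOpen (U.ι ≫ f)]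
    (hE : ∀ z ∈ U, GeomRedFlat5.E f z) {z : X} (hz : z ∈ U) (hzmax : FibDim.FibMax f z)
    (t : T) (ht : i t = z) (hopen : EGA43.IsUnivOpenAt (i ≫ f) t)
    {η : X} (hη : η ⤳ z) (hηmax : ∀ v, v ⤳ η → v = η) : η ∈ Set.range i := by
  by_cases hne : z = η
  · exact ⟨t, ht.trans hne⟩
  obtain ⟨A, _, _, _, g, w, θ, hflat, hred, hfm, hθu, hqθ, hpθ, hpux, hpu⟩ := exists_trait f U hE hz hη hne hηmax
  let q := pullback.snd f g
  let p := pullback.fst f g
  set u := q.fiberι (closedPoint A : PrimeSpectrum A) w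
  have hpuz : p u = z := hzmax _ hpux hpu
  have bigsq := (IsPullback.of_hasPullback i p).paste_vert (IsPullback.of_hasPullback f g)
  obtain ⟨u₁, hu₁, hu₂⟩ := Scheme.Pullback.exists_preimage_pullback (f := i) (g := p) t u (ht.trans hpuz.symm)
  have hop := QHomeo.univOpenAt_openAt hopen bigsq u₁ hu₁
  have hqu : q u = (closedPoint A : PrimeSpectrum A) := FlatDvr.fiberι_apply_eq q w
  let o : Spec (CommRingCat.of A) := (⟨⊥, Ideal.isPrime_bot⟩ : PrimeSpectrum A)
  have hoc : o ≠ q u := by
    rw [hqu]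
    exact fun h => IsDiscreteValuationRing.not_a_field A (congrArg PrimeSpectrum.asIdeal h).symm
  have hou : o ⤳ (pullback.snd i p ≫ q) u₁ := by
    rw [Scheme.Hom.comp_apply, hu₂, hqu]
    exact (PrimeSpectrum.le_iff_specializes (⟨⊥, Ideal.isPrime_bot⟩ : PrimeSpectrum A) (closedPoint A)).1 bot_le
  haveI : LocallyOfFiniteType (pullback.snd i p) := MorphismProperty.pullback_snd _ _ inferInstance
  haveI : LocallyOfFiniteType q := MorphismProperty.pullback_snd _ _ inferInstance
  haveI : LocallyOfFiniteType (pullback.snd i p ≫ q) := inferInstance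
  obtain ⟨ζ, hζ, hqζ⟩ := FibDim.exists_generization_of_isOpenAt (pullback.snd i p ≫ q) hop hou
  rw [Scheme.Hom.comp_apply] at hqζ
  have h : pullback.snd i p ζ = θ := by
    refine eq_of_specializes q rfl w hflat hred hfm ?_ hθu ?_ ?_
    · exact (hζ.map (pullback.snd i p).continuous).trans (specializes_of_eq hu₂)
    · rw [hqζ]; exact hoc
    · rw [hqθ]; exact hoc
  refine ⟨pullback.fst i p ζ, ?_⟩
  rw [← Scheme.Hom.comp_apply, pullback.condition, Scheme.Hom.comp_apply, h, hpθ]

theorem geomReducedAt_of_eq {y : Y} (ζ : ↥(f.fiber y)) (h : GeomRedFlat5.E f (f.fiberι y ζ)) :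
    FBase.IsGeomReducedAt (f.fiberToSpecResidueField y) ζ := by
  obtain ⟨x, hx⟩ : ∃ x, f.fiberι y ζ = x := ⟨_, rfl⟩
  rw [hx] at h
  have hy : y = f x := by rw [← hx, FlatDvr.fiberι_apply_eq]
  subst hy
  rwa [(f.fiberι _).isEmbedding.injective (hx.trans (f.fiberι_asFiber x).symm)]

end Groth.Agent.Equidim5
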